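import Cfsg.Agent.HexTwoGlob.Spec

/-!
# Normal elementary abelian subgroups of the Sylow 2-subgroup of `³D₄(2)` have order at most 32 (helper4)
-/

set_option autoImplicit false

namespace Cfsg.Agent.H4.TwD4

open Cfsg.Agent.HexRec Cfsg.Agent.HexTwoGlob

universe v w

variable {F K : Type v} [Field F] [Field K] [Algebra F K] {C : Cubic F K} {S : Type w} [Group S] (E : Coord C S)

/-- `u² = 1` and `[u, u^{x₆}] = 1` imply `a₁ = 0` -/
theorem a1_eq_zero {u v : S} (h2 : u * u = 1) (hv : v * E.x6 1 = E.x6 1 * u) (hc : u * v = v * u) : (E.e u).a1 = 0 := by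
  by_contra ha
  obtain ⟨a, ha'⟩ : ∃ a, a = (E.e u).a1 := ⟨_, rfl⟩
  obtain ⟨b, hb⟩ : ∃ b, b = (E.e u).a2 := ⟨_, rfl⟩
  obtain ⟨c, hc'⟩ : ∃ c, c = (E.e u).a3 := ⟨_, rfl⟩
  obtain ⟨d, hd⟩ : ∃ d, d = (E.e u).a4 := ⟨_, rfl⟩
  obtain ⟨e, he⟩ : ∃ e, e = (E.e u).a5 := ⟨_, rfl⟩
  obtain ⟨f, hf⟩ : ∃ f, f = (E.e u).a6 := ⟨_, rfl⟩
  rw [← ha'] at ha
  -- coordinates of `v`
  have v1 : (E.e v).a1 = a := by
    have := congrArg (fun x => (E.e x).a1) hv
    simp only [E.mul_a1, E.e_x6, add_zero, zero_add] at this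
    rw [this, ha']
  have v6 : (E.e v).a6 = f := by
    have := congrArg (fun x => (E.e x).a6) hv
    simp only [E.mul_a6, E.e_x6] at this
    rw [add_comm 1] at this
    rw [hf]; exact add_right_cancel this
  have v5 : (E.e v).a5 = e + a := by
    have := congrArg (fun x => (E.e x).a5) hv
    simp only [E.mul_a5, E.e_x6, add_zero, zero_add, smul_zero, one_smul] at this
    rw [this, he, ha']
  have v3 : (E.e v).a3 = c + C.sh a := by
    have := congrArg (fun x => (E.e x).a3) hv
    simp only [E.mul_a3, E.e_x6, add_zero, zero_add, smul_zero, one_smul, C.sh_zero, C.cr_zero_left, C.cr_zero_right] at this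
    rw [this, hc', ha']
  have v2 : (E.e v).a2 = b + C.N a := by
    have := congrArg (fun x => (E.e x).a2) hv
    simp only [E.mul_a2, E.e_x6, add_zero, zero_add, mul_zero, one_mul, C.N_zero, C.sh_zero, C.T_zero_left, C.T_zero_right] at this
    rw [this, hb, ha']
  -- `u² = 1`
  have s5 : f • a = 0 := by
    have := congrArg (fun x => (E.e x).a5) h2
    simp only [E.mul_a5, E.one_a5, C.add_selfK, zero_add] at this
    rw [hf, ha']; exact this
  have f0 : f = 0 := by
    rcases smul_eq_zero.1 s5 with h | h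
    · exact h
    · exact absurd h ha
  have s2 : C.T a c + C.T (C.sh a) e = 0 := by
    have := congrArg (fun x => (E.e x).a2) h2
    simp only [E.mul_a2, E.one_a2] at this
    rw [← hb, ← hf, ← ha', ← hc', ← he, C.add_self, zero_add, f0, zero_mul, zero_add] at this
    exact this
  -- the commutator
  have h4 := congrArg (fun x => (E.e x).a4) hc
  simp only [E.mul_a4] at h4
  rw [v1, v2, v3, v5, v6, ← hb, ← hf, ← ha', ← hc', ← he, ← hd, f0] at h4
  simp only [zero_mul, add_zero, ne_eq, OfNat.ofNat_ne_zero, not_false_eq_true, zero_pow] at h4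
  have h5 : C.T a (C.sh e) + C.T (c + C.sh a) e = C.T a (C.sh (e + a)) + C.T c (e + a) := by
    have h6 : d + (E.e v).a4 + (C.T a (C.sh e) + C.T (c + C.sh a) e) = d + (E.e v).a4 + (C.T a (C.sh (e + a)) + C.T c (e + a)) := by
      linear_combination h4
    exact add_left_cancel h6
  rw [C.sh_add', C.T_add_left, C.T_add_right, C.T_add_right, C.T_add_right, C.T_self_sh] at h5
  have h7 : C.T a (C.cr e a) = 0 := by rw [C.T_comm, C.T_cr_self]
  rw [h7] at h5
  apply C.N_ne_zero ha
  have h8 : C.N a = C.T (C.sh a) e + C.T c a - (C.T c a + C.T c a) := by linear_combination -h5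
  rw [h8, C.add_self, sub_zero, C.T_comm c a, add_comm]
  exact s2

/-- `a₁ = 0`, `a₆ = 1` and `[u, u^{x₁}] = 1` is impossible -/
theorem a6_ne_one {u v : S} (h1 : (E.e u).a1 = 0) (hv : v * E.x1 1 = E.x1 1 * u) (hc : u * v = v * u) :
    (E.e u).a6 ≠ 1 := by
  intro h6
  obtain ⟨b, hb⟩ : ∃ b, b = (E.e u).a2 := ⟨_, rfl⟩
  obtain ⟨c, hc'⟩ : ∃ c, c = (E.e u).a3 := ⟨_, rfl⟩
  obtain ⟨d, hd⟩ : ∃ d, d = (E.e u).a4 := ⟨_, rfl⟩
  obtain ⟨e, he⟩ : ∃ e, e = (E.e u).a5 := ⟨_, rfl⟩
  have v1 : (E.e v).a1 = 0 := by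
    have := congrArg (fun x => (E.e x).a1) hv
    simp only [E.mul_a1, E.e_x1, h1, add_zero] at this
    exact add_eq_right.1 this
  have v6 : (E.e v).a6 = 1 := by
    have := congrArg (fun x => (E.e x).a6) hv
    simp only [E.mul_a6, E.e_x1, h6, add_zero, zero_add] at this
    exact this
  have v5 : (E.e v).a5 = e + 1 := by
    have := congrArg (fun x => (E.e x).a5) hv
    simp only [E.mul_a5, E.e_x1, v6, h1, add_zero, zero_add, smul_zero, one_smul, zero_smul] at this
    rw [he, ← this, add_assoc, C.add_selfK, add_zero]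
  have v3 : (E.e v).a3 = c + 1 + C.cr 1 e := by
    have := congrArg (fun x => (E.e x).a3) hv
    simp only [E.mul_a3, E.e_x1, v5, v6, h1, add_zero, zero_add, smul_zero, one_smul, C.sh_zero, C.sh_one, C.cr_zero_left,
      C.cr_zero_right, C.cr_add_right, C.cr_self, zero_smul] at this
    rw [← hc'] at this
    rw [← this]
    linear_combination -(C.add_selfK (1 : K)) - C.add_selfK (C.cr 1 e)
  have v2 : (E.e v).a2 = b + 1 + C.T 1 (E.e v).a3 + C.T 1 (e + 1) := by
    have := congrArg (fun x => (E.e x).a2) hv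
    simp only [E.mul_a2, E.e_x1, v5, v6, h1, add_zero, zero_add, mul_zero, zero_mul, one_mul, C.N_zero, C.N_one, C.sh_zero, C.sh_one,
      C.T_zero_left, C.T_zero_right] at this
    rw [← hb] at this
    rw [← this]
    linear_combination -(C.add_self (1 : F)) - C.add_self (C.T 1 (E.e v).a3) - C.add_self (C.T 1 (e + 1))
  have h4 := congrArg (fun x => (E.e x).a4) hc
  simp only [E.mul_a4, h1, v1, h6, v6, C.N_zero, C.T_zero_left, C.sh_zero, C.T_zero_right, mul_zero, one_mul, add_zero] at h4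
  rw [v2, v3, v5, ← hb, ← hc', ← he] at h4
  have e1 : C.T 1 1 = 1 := by
    have := C.T_self_sh 1
    rwa [C.sh_one, C.N_one] at this
  have e2 : C.T 1 (C.cr 1 e) = 0 := by rw [C.T_comm, C.T_cr_self']
  have e3 : C.T (C.cr 1 e) e = 0 := C.T_cr_self 1 e
  have e4 : C.T c 1 = C.T 1 c := C.T_comm c 1
  simp only [C.T_add_left, C.T_add_right, e1, e2, e3, e4] at h4
  have h7 : (1 : F) = 0 := by linear_combination h4 - C.add_self (1 : F) - C.add_self (C.T 1 e)
  exact one_ne_zero h7

/-- the alternating form on `K × K` -/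
noncomputable def form (C : Cubic F K) : LinearMap.BilinForm F (K × K) :=
  LinearMap.mk₂ F (fun x y => C.T x.1 y.2 + C.T y.1 x.2)
    (fun x x' y => by
      simp only [Prod.fst_add, Prod.snd_add, C.T_add_left, C.T_add_right]; ring)
    (fun c x y => by
      simp only [Prod.smul_fst, Prod.smul_snd, C.T_smul_left, C.T_smul_right, smul_eq_mul]; ring)
    (fun x y y' => by
      simp only [Prod.fst_add, Prod.snd_add, C.T_add_left, C.T_add_right]; ring)
    (fun c x y => by
      simp only [Prod.smul_fst, Prod.smul_snd, C.T_smul_left, C.T_smul_right, smul_eq_mul]; ring)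

theorem form_apply (x y : K × K) : form C x y = C.T x.1 y.2 + C.T y.1 x.2 := rfl

theorem form_nondeg (C : Cubic F K) : (form C).Nondegenerate := by
  constructor
  · intro x hx
    refine Prod.ext ?_ ?_
    · refine C.T_nondeg (fun b => ?_)
      have h1 := hx (0, b)
      rw [form_apply] at h1
      simpa [C.T_zero_left] using h1
    · refine C.T_nondeg (fun b => ?_)
      have h1 := hx (b, 0)
      rw [form_apply] at h1
      rw [C.T_comm]
      simpa [C.T_zero_right] using h1
  · intro x hx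
    refine Prod.ext ?_ ?_
    · refine C.T_nondeg (fun b => ?_)
      have h1 := hx (0, b)
      rw [form_apply] at h1
      simpa [C.T_zero_left] using h1
    · refine C.T_nondeg (fun b => ?_)
      have h1 := hx (b, 0)
      rw [form_apply] at h1
      rw [C.T_comm]
      simpa [C.T_zero_right] using h1

/-- isotropic subspaces have dimension at most 3 -/
theorem finrank_le (hD : Dat2 C) (W : Submodule F (K × K)) (hW : ∀ x ∈ W, ∀ y ∈ W, form C x y = 0) :
    Module.finrank F W ≤ 3 := by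
  have hfF := hD.finite_F
  have hfK := hD.finite_K
  have hfd : Module.Finite F K := Module.finite_of_finrank_pos (by rw [hD.deg]; norm_num)
  have h1 := LinearMap.BilinForm.finrank_orthogonal (form_nondeg C) W
  have h2 : W ≤ (form C).orthogonal W := by
    intro x hx
    rw [LinearMap.BilinForm.mem_orthogonal_iff]
    intro y hy
    exact hW y hy x hx
  have h3 := Submodule.finrank_mono h2
  rw [h1, Module.finrank_prod, hD.deg] at h3
  omega

/-- **abelian subgroups of `{a₁ = a₆ = 0}` have order at most 32** -/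
theorem card_le (hD : Dat2 C) (U : Subgroup S) (h1 : ∀ u ∈ U, (E.e u).a1 = 0) (h6 : ∀ u ∈ U, (E.e u).a6 = 0)
    (hc : ∀ u ∈ U, ∀ v ∈ U, u * v = v * u) : Nat.card U ≤ 32 := by
  have hfF := hD.finite_F
  have hfK := hD.finite_K
  have hadd : ∀ u ∈ U, ∀ v ∈ U, (E.e (u * v)).a3 = (E.e u).a3 + (E.e v).a3 ∧ (E.e (u * v)).a5 = (E.e u).a5 + (E.e v).a5 := by
    intro u hu v hv
    rw [E.mul_a3, E.mul_a5, h6 u hu, h1 v hv]
    simp [C.cr_zero_left]
  let W : Submodule F (K × K) :=
    { carrier := {x | ∃ u ∈ U, x = ((E.e u).a3, (E.e u).a5)}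
      add_mem' := by
        rintro _ _ ⟨u, hu, rfl⟩ ⟨v, hv, rfl⟩
        refine ⟨u * v, mul_mem hu hv, ?_⟩
        rw [(hadd u hu v hv).1, (hadd u hu v hv).2]; rfl
      zero_mem' := ⟨1, one_mem _, by rw [E.one_a3, E.one_a5]; rfl⟩
      smul_mem' := by
        rintro c _ ⟨u, hu, rfl⟩
        rcases hD.eq_zero_or_one c with rfl | rfl
        · exact ⟨1, one_mem _, by rw [E.one_a3, E.one_a5, zero_smul]; rfl⟩
        · exact ⟨u, hu, by rw [one_smul]⟩ }
  have hW : ∀ x ∈ W, ∀ y ∈ W, form C x y = 0 := by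
    rintro _ ⟨u, hu, rfl⟩ _ ⟨v, hv, rfl⟩
    have h2 := congrArg (fun x => (E.e x).a4) (hc u hu v hv)
    simp only [E.mul_a4, h1 u hu, h1 v hv, h6 u hu, h6 v hv, C.N_zero, C.T_zero_left, C.T_zero_right, C.sh_zero, mul_zero,
      zero_mul, add_zero] at h2
    rw [form_apply]
    have h3 : C.T (E.e v).a3 (E.e u).a5 = C.T (E.e u).a3 (E.e v).a5 := by
      have h4 : (E.e u).a4 + (E.e v).a4 + C.T (E.e v).a3 (E.e u).a5 = (E.e u).a4 + (E.e v).a4 + C.T (E.e u).a3 (E.e v).a5 := by
        rw [h2]; ring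
      exact add_left_cancel h4
    rw [h3, C.add_self]
  have h8 : Nat.card W ≤ 8 := by
    have hfd : Module.Finite F W := Module.Finite.of_finite
    rw [Module.natCard_eq_pow_finrank (K := F) (V := W), hD.card]
    calc 2 ^ Module.finrank F W ≤ 2 ^ 3 := Nat.pow_le_pow_right (by norm_num) (finrank_le hD W hW)
      _ = 8 := by norm_num
  let f : ↥U → (F × F) × W := fun u => (((E.e u.1).a2, (E.e u.1).a4), ⟨((E.e u.1).a3, (E.e u.1).a5), u.1, u.2, rfl⟩)
  have hf : Function.Injective f := by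
    intro u v huv
    simp only [f, Prod.mk.injEq, Subtype.mk.injEq] at huv
    obtain ⟨⟨e2, e4⟩, e3, e5⟩ := huv
    exact Subtype.ext (E.ext (by rw [h1 _ u.2, h1 _ v.2]) e2 e3 e4 e5 (by rw [h6 _ u.2, h6 _ v.2]))
  have hfW : Finite W := inferInstance
  have h9 := Nat.card_le_card_of_injective f hf
  rw [Nat.card_prod, Nat.card_prod, hD.card] at h9
  omega

/-- **normal elementary abelian subgroups have order at most 32** -/
theorem card_le_of_normal (E : Coord C S) (hD : Dat2 C) (U : Subgroup S) (hn : ∀ g : S, ∀ u ∈ U, g * u * g⁻¹ ∈ U)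
    (h2 : ∀ u ∈ U, u * u = 1) (hc : ∀ u ∈ U, ∀ v ∈ U, u * v = v * u) : Nat.card U ≤ 32 := by
  have h1 : ∀ u ∈ U, (E.e u).a1 = 0 := fun u hu =>
    a1_eq_zero E (h2 u hu) (inv_mul_cancel_right _ _) (hc u hu _ (hn (E.x6 1) u hu))
  have h6 : ∀ u ∈ U, (E.e u).a6 = 0 := by
    intro u hu
    rcases hD.eq_zero_or_one (E.e u).a6 with h | h
    · exact h
    · exact absurd h (a6_ne_one E (h1 u hu) (inv_mul_cancel_right _ _) (hc u hu _ (hn (E.x1 1) u hu)))
  exact card_le E hD U h1 h6 hc

end Cfsg.Agent.H4.TwD4
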